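import Mathlib

/-!
# A Lie ring from homogeneous data (for the associated Lie ring of a central series), HKK farm S3779

`A k` is the component of degree `k + 1`.  The bracket components `br i j k : A i → A j → A k` are total
and vanish unless `i + j + 1 = k`, so that no cast between `A (i + j + 1)` and `A k` is ever needed.
The Lie ring is the full product `∀ k, A k` : every component of a bracket is a finite sum.
-/

set_option autoImplicit false

namespace Cfsg.Agent.Lib.Helper72.HKK

universe u

/-- homogeneous Lie data -/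
structure GrLie (A : ℕ → Type u) [∀ k, AddCommGroup (A k)] where
  br : ∀ i j k, A i → A j → A k
  br_ne : ∀ i j k, i + j + 1 ≠ k → ∀ a b, br i j k a b = 0
  add_left : ∀ i j k a a' b, br i j k (a + a') b = br i j k a b + br i j k a' b
  add_right : ∀ i j k a b b', br i j k a (b + b') = br i j k a b + br i j k a b'
  self : ∀ i k a, br i i k a a = 0
  skew : ∀ i j k a b, br i j k a b = - br j i k b a
  jacobi : ∀ i j l m1 m2 m3 k, j + l + 1 = m1 → i + j + 1 = m2 → i + l + 1 = m3 → i + j + l + 2 = k →
    ∀ a b c, br i m1 k a (br j l m1 b c) = br m2 l k (br i j m2 a b) c + br j m3 k b (br i l m3 a c)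

variable {A : ℕ → Type u} [∀ k, AddCommGroup (A k)]

/-- the underlying type of the Lie ring -/
def GrLie.Ring (_D : GrLie A) : Type u := ∀ k, A k

instance instAddCommGroupRing (D : GrLie A) : AddCommGroup D.Ring :=
  inferInstanceAs (AddCommGroup (∀ k, A k))

namespace GrLie

variable (D : GrLie A)

theorem zero_left (i j k : ℕ) (b : A j) : D.br i j k 0 b = 0 := by
  have h := D.add_left i j k 0 0 b
  rw [add_zero] at h
  exact left_eq_add.1 h

theorem zero_right (i j k : ℕ) (a : A i) : D.br i j k a 0 = 0 := by
  have h := D.add_right i j k a 0 0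
  rw [add_zero] at h
  exact left_eq_add.1 h

theorem sum_left {ι : Type*} (s : Finset ι) (i j k : ℕ) (f : ι → A i) (b : A j) :
    D.br i j k (∑ t ∈ s, f t) b = ∑ t ∈ s, D.br i j k (f t) b := by
  classical
  induction s using Finset.induction_on with
  | empty => simp [D.zero_left]
  | insert t s ht ih => rw [Finset.sum_insert ht, Finset.sum_insert ht, D.add_left, ih]

theorem sum_right {ι : Type*} (s : Finset ι) (i j k : ℕ) (a : A i) (f : ι → A j) :
    D.br i j k a (∑ t ∈ s, f t) = ∑ t ∈ s, D.br i j k a (f t) := by
  classical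
  induction s using Finset.induction_on with
  | empty => simp [D.zero_right]
  | insert t s ht ih => rw [Finset.sum_insert ht, Finset.sum_insert ht, D.add_right, ih]

/-- the `k`-th component of the bracket, computed with the cutoff `K` -/
def brK (K : ℕ) (x y : D.Ring) (k : ℕ) : A k :=
  ∑ i ∈ Finset.range K, ∑ j ∈ Finset.range K, D.br i j k (x i) (y j)

theorem brK_eq (K k : ℕ) (hK : k ≤ K) (x y : D.Ring) : D.brK K x y k = D.brK k x y k := by
  unfold brK
  symm
  apply Finset.sum_subset_zero_on_sdiff (Finset.range_subset_range.2 hK)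
  · intro i hi
    rw [Finset.mem_sdiff, Finset.mem_range, Finset.mem_range] at hi
    apply Finset.sum_eq_zero
    intro j _
    exact D.br_ne i j k (by omega) _ _
  · intro i _
    apply Finset.sum_subset (Finset.range_subset_range.2 hK)
    intro j _ hj
    rw [Finset.mem_range] at hj
    exact D.br_ne i j k (by omega) _ _

instance instBracketRing : Bracket D.Ring D.Ring := ⟨fun x y k => D.brK k x y k⟩

theorem bracket_apply (x y : D.Ring) (k : ℕ) : (⁅x, y⁆ : D.Ring) k = D.brK k x y k := rfl

theorem bracket_apply' (x y : D.Ring) (k K : ℕ) (hK : k ≤ K) :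
    (⁅x, y⁆ : D.Ring) k = ∑ i ∈ Finset.range K, ∑ j ∈ Finset.range K, D.br i j k (x i) (y j) :=
  (D.brK_eq K k hK x y).symm

theorem add_apply (x y : D.Ring) (k : ℕ) : (x + y) k = x k + y k := rfl
theorem zero_apply (k : ℕ) : (0 : D.Ring) k = 0 := rfl

theorem tri1 (i j l k : ℕ) (a : A i) (b : A j) (c : A l) :
    ∑ m ∈ Finset.range k, D.br i m k a (D.br j l m b c) =
      D.br i (j + l + 1) k a (D.br j l (j + l + 1) b c) := by
  by_cases h : j + l + 1 < k
  · apply Finset.sum_eq_single_of_mem _ (Finset.mem_range.2 h)
    intro m _ hm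
    rw [D.br_ne j l m (fun e => hm e.symm), D.zero_right]
  · rw [D.br_ne i (j + l + 1) k (by omega)]
    apply Finset.sum_eq_zero
    intro m hm
    rw [Finset.mem_range] at hm
    rw [D.br_ne j l m (by omega), D.zero_right]

theorem tri2 (i j l k : ℕ) (a : A i) (b : A j) (c : A l) :
    ∑ m ∈ Finset.range k, D.br m l k (D.br i j m a b) c =
      D.br (i + j + 1) l k (D.br i j (i + j + 1) a b) c := by
  by_cases h : i + j + 1 < k
  · apply Finset.sum_eq_single_of_mem _ (Finset.mem_range.2 h)
    intro m _ hm
    rw [D.br_ne i j m (fun e => hm e.symm), D.zero_left]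
  · rw [D.br_ne (i + j + 1) l k (by omega)]
    apply Finset.sum_eq_zero
    intro m hm
    rw [Finset.mem_range] at hm
    rw [D.br_ne i j m (by omega), D.zero_left]

theorem jac (i j l k : ℕ) (a : A i) (b : A j) (c : A l) :
    D.br i (j + l + 1) k a (D.br j l (j + l + 1) b c) =
      D.br (i + j + 1) l k (D.br i j (i + j + 1) a b) c +
        D.br j (i + l + 1) k b (D.br i l (i + l + 1) a c) := by
  by_cases h : i + j + l + 2 = k
  · exact D.jacobi i j l _ _ _ k rfl rfl rfl h a b c
  · rw [D.br_ne i (j + l + 1) k (by omega), D.br_ne (i + j + 1) l k (by omega),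
      D.br_ne j (i + l + 1) k (by omega), add_zero]

theorem lie1 (x y z : D.Ring) (k : ℕ) : (⁅x, ⁅y, z⁆⁆ : D.Ring) k =
    ∑ i ∈ Finset.range k, ∑ j ∈ Finset.range k, ∑ l ∈ Finset.range k,
      D.br i (j + l + 1) k (x i) (D.br j l (j + l + 1) (y j) (z l)) := by
  rw [bracket_apply]
  unfold brK
  apply Finset.sum_congr rfl
  intro i _
  calc ∑ m ∈ Finset.range k, D.br i m k (x i) ((⁅y, z⁆ : D.Ring) m)
      = ∑ m ∈ Finset.range k, ∑ j ∈ Finset.range k, ∑ l ∈ Finset.range k,
          D.br i m k (x i) (D.br j l m (y j) (z l)) := by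
        apply Finset.sum_congr rfl
        intro m hm
        rw [D.bracket_apply' y z m k (Finset.mem_range.1 hm).le, D.sum_right]
        apply Finset.sum_congr rfl
        intro j _
        rw [D.sum_right]
    _ = ∑ j ∈ Finset.range k, ∑ m ∈ Finset.range k, ∑ l ∈ Finset.range k,
          D.br i m k (x i) (D.br j l m (y j) (z l)) := Finset.sum_comm
    _ = ∑ j ∈ Finset.range k, ∑ l ∈ Finset.range k, ∑ m ∈ Finset.range k,
          D.br i m k (x i) (D.br j l m (y j) (z l)) := by
        apply Finset.sum_congr rfl
        intro j _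
        exact Finset.sum_comm
    _ = _ := by
        apply Finset.sum_congr rfl
        intro j _
        apply Finset.sum_congr rfl
        intro l _
        exact D.tri1 i j l k _ _ _

theorem lie2 (x y z : D.Ring) (k : ℕ) : (⁅⁅x, y⁆, z⁆ : D.Ring) k =
    ∑ i ∈ Finset.range k, ∑ j ∈ Finset.range k, ∑ l ∈ Finset.range k,
      D.br (i + j + 1) l k (D.br i j (i + j + 1) (x i) (y j)) (z l) := by
  rw [bracket_apply]
  unfold brK
  calc ∑ m ∈ Finset.range k, ∑ l ∈ Finset.range k, D.br m l k ((⁅x, y⁆ : D.Ring) m) (z l)
      = ∑ m ∈ Finset.range k, ∑ l ∈ Finset.range k, ∑ i ∈ Finset.range k, ∑ j ∈ Finset.range k,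
          D.br m l k (D.br i j m (x i) (y j)) (z l) := by
        apply Finset.sum_congr rfl
        intro m hm
        apply Finset.sum_congr rfl
        intro l _
        rw [D.bracket_apply' x y m k (Finset.mem_range.1 hm).le, D.sum_left]
        apply Finset.sum_congr rfl
        intro i _
        rw [D.sum_left]
    _ = ∑ m ∈ Finset.range k, ∑ i ∈ Finset.range k, ∑ l ∈ Finset.range k, ∑ j ∈ Finset.range k,
          D.br m l k (D.br i j m (x i) (y j)) (z l) := by
        apply Finset.sum_congr rfl
        intro m _
        exact Finset.sum_comm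
    _ = ∑ i ∈ Finset.range k, ∑ m ∈ Finset.range k, ∑ l ∈ Finset.range k, ∑ j ∈ Finset.range k,
          D.br m l k (D.br i j m (x i) (y j)) (z l) := Finset.sum_comm
    _ = ∑ i ∈ Finset.range k, ∑ m ∈ Finset.range k, ∑ j ∈ Finset.range k, ∑ l ∈ Finset.range k,
          D.br m l k (D.br i j m (x i) (y j)) (z l) := by
        apply Finset.sum_congr rfl
        intro i _
        apply Finset.sum_congr rfl
        intro m _
        exact Finset.sum_comm
    _ = ∑ i ∈ Finset.range k, ∑ j ∈ Finset.range k, ∑ m ∈ Finset.range k, ∑ l ∈ Finset.range k,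
          D.br m l k (D.br i j m (x i) (y j)) (z l) := by
        apply Finset.sum_congr rfl
        intro i _
        exact Finset.sum_comm
    _ = ∑ i ∈ Finset.range k, ∑ j ∈ Finset.range k, ∑ l ∈ Finset.range k, ∑ m ∈ Finset.range k,
          D.br m l k (D.br i j m (x i) (y j)) (z l) := by
        apply Finset.sum_congr rfl
        intro i _
        apply Finset.sum_congr rfl
        intro j _
        exact Finset.sum_comm
    _ = _ := by
        apply Finset.sum_congr rfl
        intro i _
        apply Finset.sum_congr rfl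
        intro j _
        apply Finset.sum_congr rfl
        intro l _
        exact D.tri2 i j l k _ _ _

instance instLieRing : LieRing D.Ring where
  add_lie x y z := by
    funext k
    rw [D.add_apply, bracket_apply, bracket_apply, bracket_apply]
    unfold brK
    rw [← Finset.sum_add_distrib]
    apply Finset.sum_congr rfl
    intro i _
    rw [← Finset.sum_add_distrib]
    apply Finset.sum_congr rfl
    intro j _
    rw [D.add_apply, D.add_left]
  lie_add x y z := by
    funext k
    rw [D.add_apply, bracket_apply, bracket_apply, bracket_apply]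
    unfold brK
    rw [← Finset.sum_add_distrib]
    apply Finset.sum_congr rfl
    intro i _
    rw [← Finset.sum_add_distrib]
    apply Finset.sum_congr rfl
    intro j _
    rw [D.add_apply, D.add_right]
  lie_self x := by
    funext k
    rw [bracket_apply, D.zero_apply]
    unfold brK
    rw [← Finset.sum_product']
    apply Finset.sum_involution (fun p _ => (p.2, p.1))
    · intro p _
      rw [D.skew p.1 p.2 k, neg_add_cancel]
    · intro p _ hp hpp
      apply hp
      have h1 : p.2 = p.1 := congrArg Prod.fst hpp
      obtain ⟨i, j⟩ := p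
      simp only at h1
      subst h1
      exact D.self _ _ _
    · intro p hp
      rw [Finset.mem_product] at hp ⊢
      exact ⟨hp.2, hp.1⟩
    · intro p _
      rfl
  leibniz_lie x y z := by
    funext k
    rw [D.add_apply, D.lie1, D.lie2, D.lie1 y x z k]
    rw [Finset.sum_comm (f := fun j i => ∑ l ∈ Finset.range k,
      D.br j (i + l + 1) k (y j) (D.br i l (i + l + 1) (x i) (z l)))]
    rw [← Finset.sum_add_distrib]
    apply Finset.sum_congr rfl
    intro i _
    rw [← Finset.sum_add_distrib]
    apply Finset.sum_congr rfl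
    intro j _
    rw [← Finset.sum_add_distrib]
    apply Finset.sum_congr rfl
    intro l _
    exact D.jac i j l k _ _ _

end GrLie

end Cfsg.Agent.Lib.Helper72.HKK
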