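import Cfsg.Agent.Lib.Helper72.HKK.GrLie
import Cfsg.Agent.Lib.Helper6.HKK.Defs

/-!
# Complements on the Lie ring `D.Ring` : homogeneous elements, componentwise endomorphisms, transfer
-/

set_option autoImplicit false

namespace Cfsg.Agent.Lib.Helper72.HKK

open Cfsg.Agent.Lib.Helper6.HKK (lnb)

universe u

variable {A : ℕ → Type u} [∀ k, AddCommGroup (A k)]

namespace GrLie

variable (D : GrLie A)

/-- the homogeneous element with component `a` in degree `k` -/
def sg (k : ℕ) : A k →+ D.Ring where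
  toFun a := (Pi.single k a : ∀ k, A k)
  map_zero' := Pi.single_zero k
  map_add' a b := Pi.single_add k a b

theorem sg_same (k : ℕ) (a : A k) : D.sg k a k = a := Pi.single_eq_same k a
theorem sg_ne (k m : ℕ) (h : m ≠ k) (a : A k) : D.sg k a m = 0 := Pi.single_eq_of_ne h a

theorem lie_sg_sg (d e : ℕ) (u : A d) (v : A e) :
    ⁅D.sg d u, D.sg e v⁆ = D.sg (d + e + 1) (D.br d e (d + e + 1) u v) := by
  funext k
  rw [D.bracket_apply' _ _ k (k + d + e + 1) (by omega)]
  rw [Finset.sum_eq_single_of_mem d (Finset.mem_range.2 (by omega))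
    (fun i _ hi => Finset.sum_eq_zero (fun j _ => by rw [D.sg_ne d i hi, D.zero_left]))]
  rw [Finset.sum_eq_single_of_mem e (Finset.mem_range.2 (by omega))
    (fun j _ hj => by rw [D.sg_ne e j hj, D.zero_right])]
  rw [D.sg_same, D.sg_same]
  by_cases hk : k = d + e + 1
  · subst hk
    rw [D.sg_same]
  · rw [D.sg_ne _ _ hk, D.br_ne d e k (fun h => hk h.symm)]

/-- the endomorphism given by componentwise additive maps -/
def mp (f : ∀ k, A k →+ A k) : D.Ring →+ D.Ring where
  toFun x := fun k => f k (x k)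
  map_zero' := by
    funext k
    exact map_zero (f k)
  map_add' x y := by
    funext k
    exact map_add (f k) _ _

theorem mp_apply (f : ∀ k, A k →+ A k) (x : D.Ring) (k : ℕ) : D.mp f x k = f k (x k) := rfl

theorem mp_sg (f : ∀ k, A k →+ A k) (k : ℕ) (a : A k) : D.mp f (D.sg k a) = D.sg k (f k a) := by
  funext m
  rw [mp_apply]
  by_cases hm : m = k
  · subst hm
    rw [D.sg_same, D.sg_same]
  · rw [D.sg_ne _ _ hm, D.sg_ne _ _ hm, map_zero]

theorem mp_lie (f : ∀ k, A k →+ A k)
    (hf : ∀ i j k a b, f k (D.br i j k a b) = D.br i j k (f i a) (f j b)) (x y : D.Ring) :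
    D.mp f ⁅x, y⁆ = ⁅D.mp f x, D.mp f y⁆ := by
  funext k
  rw [mp_apply, bracket_apply, bracket_apply]
  unfold brK
  rw [map_sum]
  apply Finset.sum_congr rfl
  intro i _
  rw [map_sum]
  apply Finset.sum_congr rfl
  intro j _
  rw [hf]
  rfl

theorem mp_iterate (f : ∀ k, A k →+ A k) (n : ℕ) (x : D.Ring) (k : ℕ) :
    ((D.mp f)^[n] x) k = (f k)^[n] (x k) := by
  induction n generalizing x with
  | zero => rfl
  | succ n ih => rw [Function.iterate_succ_apply, Function.iterate_succ_apply, ih, mp_apply]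

theorem mp_pow (f : ∀ k, A k →+ A k) (p : ℕ) (h : ∀ k a, (f k)^[p] a = a) (x : D.Ring) :
    (D.mp f)^[p] x = x := by
  funext k
  rw [mp_iterate, h]

theorem sum_apply {ι : Type*} (s : Finset ι) (g : ι → D.Ring) (k : ℕ) :
    (∑ t ∈ s, g t) k = ∑ t ∈ s, g t k :=
  Finset.sum_apply (M := fun k => A k) k s g

theorem mp_sum (f : ∀ k, A k →+ A k) (p : ℕ)
    (h : ∀ k a, ∑ j ∈ Finset.range p, (f k)^[j] a = 0) (x : D.Ring) :
    ∑ j ∈ Finset.range p, (D.mp f)^[j] x = 0 := by
  funext k
  rw [sum_apply, D.zero_apply, ← h k (x k)]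
  apply Finset.sum_congr rfl
  intro j _
  rw [mp_iterate]

theorem tor (p : ℕ) (h : ∀ k (a : A k), p • a = 0 → a = 0) (x : D.Ring) (hx : p • x = 0) : x = 0 := by
  funext k
  apply h k
  exact congrFun hx k

theorem lnb_concat {L : Type u} [LieRing L] (x : L) (l : List L) (y : L) :
    lnb x (l ++ [y]) = ⁅lnb x l, y⁆ := by
  unfold lnb
  rw [List.foldl_append]
  rfl

/-- the additive subgroup generated by the left-normed brackets of length `d` -/
def CC (d : ℕ) : AddSubgroup D.Ring :=
  AddSubgroup.closure {X | ∃ (x : D.Ring) (l : List D.Ring), l.length = d ∧ X = lnb x l}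

theorem lie_mem_CC (d : ℕ) (X y : D.Ring) (hX : X ∈ D.CC d) : ⁅X, y⁆ ∈ D.CC (d + 1) := by
  unfold CC at hX
  induction hX using AddSubgroup.closure_induction with
  | mem X hX =>
    obtain ⟨x, l, hl, rfl⟩ := hX
    apply AddSubgroup.subset_closure
    exact ⟨x, l ++ [y], by rw [List.length_append, hl]; rfl, (lnb_concat x l y).symm⟩
  | zero => rw [zero_lie]; exact AddSubgroup.zero_mem _
  | add a b _ _ ha hb => rw [add_lie]; exact AddSubgroup.add_mem _ ha hb
  | neg a _ ha => rw [neg_lie]; exact AddSubgroup.neg_mem _ ha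

theorem sg_mem_CC (hgen : ∀ d, AddSubgroup.closure {w : A (d + 1) | ∃ u a, w = D.br d 0 (d + 1) u a} = ⊤)
    (d : ℕ) : ∀ w : A d, D.sg d w ∈ D.CC d := by
  induction d with
  | zero =>
    intro w
    exact AddSubgroup.subset_closure ⟨D.sg 0 w, [], rfl, rfl⟩
  | succ d ih =>
    intro w
    have hw : w ∈ AddSubgroup.closure {w : A (d + 1) | ∃ u a, w = D.br d 0 (d + 1) u a} := by
      rw [hgen d]; exact AddSubgroup.mem_top w
    induction hw using AddSubgroup.closure_induction with
    | mem w hw =>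
      obtain ⟨u, a, rfl⟩ := hw
      have h1 := D.lie_sg_sg d 0 u a
      rw [add_zero] at h1
      rw [← h1]
      exact D.lie_mem_CC d _ _ (ih u)
    | zero => rw [map_zero]; exact AddSubgroup.zero_mem _
    | add a b _ _ ha hb => rw [map_add]; exact AddSubgroup.add_mem _ ha hb
    | neg a _ ha => rw [map_neg]; exact AddSubgroup.neg_mem _ ha

/-- TRANSFER: if all left-normed brackets of length `h` vanish then the component `A h` is trivial. -/
theorem eq_zero_of_lnb
    (hgen : ∀ d, AddSubgroup.closure {w : A (d + 1) | ∃ u a, w = D.br d 0 (d + 1) u a} = ⊤)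
    (h : ℕ) (H : ∀ (x : D.Ring) (l : List D.Ring), l.length = h → lnb x l = 0) (w : A h) : w = 0 := by
  have h1 : D.CC h = ⊥ := by
    unfold CC
    rw [AddSubgroup.closure_eq_bot_iff]
    rintro X ⟨x, l, hl, rfl⟩
    exact H x l hl
  have h2 := D.sg_mem_CC hgen h w
  rw [h1, AddSubgroup.mem_bot] at h2
  have h3 := congrFun h2 h
  rw [D.sg_same] at h3
  exact h3

end GrLie

end Cfsg.Agent.Lib.Helper72.HKK
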